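import Mathlib.RingTheory.Length
import Mathlib.RingTheory.FiniteLength
import Mathlib.RingTheory.SimpleModule.Basic
import Mathlib.RingTheory.Localization.AtPrime.Basic
import Mathlib.RingTheory.Spectrum.Prime.Basic
import Mathlib.Algebra.Module.LocalizedModule.Exact
import Mathlib.RingTheory.Support
import Mathlib.Tactic.Ring

/-!
Length over the base ring as weighted sum of local lengths (slim copy of `CycDim.Norm`'s semilocal section).
-/

set_option autoImplicit false

universe u

noncomputable section

namespace Groth.Agent.LenSum2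

/-- The local multiplicity of a module at a prime. -/
def lenAt {A : Type u} [CommRing A] (p : PrimeSpectrum A) (M : Type u) [AddCommGroup M] [Module A M] : ℕ∞ :=
  Module.length (Localization.AtPrime p.asIdeal) (LocalizedModule p.asIdeal.primeCompl M)

section Semilocal

variable {A B : Type u} [CommRing A] [CommRing B] [Algebra A B]

theorem lenAt_add' (p : PrimeSpectrum B) {M₁ M₂ M₃ : Type u} [AddCommGroup M₁] [Module B M₁] [AddCommGroup M₂]
    [Module B M₂] [AddCommGroup M₃] [Module B M₃] (f : M₁ →ₗ[B] M₂) (g : M₂ →ₗ[B] M₃) (hf : Function.Injective f)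
    (hg : Function.Surjective g) (h : Function.Exact f g) : lenAt p M₂ = lenAt p M₁ + lenAt p M₃ :=
  Module.length_eq_add_of_exact (LocalizedModule.map p.asIdeal.primeCompl f) (LocalizedModule.map p.asIdeal.primeCompl g)
    (LocalizedModule.map_injective p.asIdeal.primeCompl f hf) (LocalizedModule.map_surjective p.asIdeal.primeCompl g hg)
    (LocalizedModule.map_exact p.asIdeal.primeCompl f g h)

theorem lenAt_congr' (p : PrimeSpectrum B) {M N : Type u} [AddCommGroup M] [Module B M] [AddCommGroup N] [Module B N]
    (e : M ≃ₗ[B] N) : lenAt p M = lenAt p N := by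
  have h := lenAt_add' p e.toLinearMap (0 : N →ₗ[B] PUnit.{u + 1}) e.injective (Function.surjective_to_subsingleton _)
    ((e.exact_zero_iff_surjective _).2 e.surjective)
  have h0 : lenAt p PUnit.{u + 1} = 0 := Module.length_eq_zero
  rw [h0, add_zero] at h
  exact h.symm

theorem lenAt_self (p : PrimeSpectrum B) : lenAt p (B ⧸ p.asIdeal) = 1 := by
  let S := p.asIdeal.primeCompl
  rw [lenAt, Module.length_eq_one_iff, isSimpleModule_iff_toSpanSingleton_surjective]
  refine ⟨?_, fun m hm => ?_⟩
  · refine ⟨LocalizedModule.mkLinearMap S _ 1, 0, fun h0 => ?_⟩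
    obtain ⟨c, hc⟩ := (IsLocalizedModule.eq_zero_iff S (LocalizedModule.mkLinearMap S (B ⧸ p.asIdeal))).1 h0
    refine c.2 ((Ideal.Quotient.eq_zero_iff_mem (I := p.asIdeal)).1 ?_)
    exact ((mul_one _).symm.trans (Algebra.smul_def (c : B) (1 : B ⧸ p.asIdeal)).symm).trans hc
  · intro y
    induction m using LocalizedModule.induction_on with
    | h a s =>
      induction y using LocalizedModule.induction_on with
      | h b t =>
        obtain ⟨a, rfl⟩ := Ideal.Quotient.mk_surjective a
        obtain ⟨b, rfl⟩ := Ideal.Quotient.mk_surjective b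
        have ha : a ∈ S := by
          intro hap
          refine hm ?_
          rw [show Ideal.Quotient.mk p.asIdeal a = 0 from Ideal.Quotient.eq_zero_iff_mem.2 hap]
          exact LocalizedModule.zero_mk s
        refine ⟨Localization.mk (b * (s : B)) (⟨a, ha⟩ * t), ?_⟩
        rw [LinearMap.toSpanSingleton_apply, LocalizedModule.mk_smul_mk, LocalizedModule.mk_eq]
        refine ⟨1, ?_⟩
        simp only [one_smul, Submonoid.smul_def, Submonoid.coe_mul, smul_smul]
        rw [Algebra.smul_def, Algebra.smul_def, Ideal.Quotient.algebraMap_eq, ← map_mul, ← map_mul]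
        congr 1
        ring

theorem lenAt_of_not_le {p : PrimeSpectrum B} {q : Ideal B} (h : ¬ q ≤ p.asIdeal) : lenAt p (B ⧸ q) = 0 := by
  obtain ⟨c, hcq, hcp⟩ := SetLike.not_le_iff_exists.1 h
  rw [lenAt, Module.length_eq_zero_iff]
  refine LocalizedModule.subsingleton_iff.2 fun m => ⟨c, hcp, ?_⟩
  obtain ⟨b, rfl⟩ := Ideal.Quotient.mk_surjective m
  exact Ideal.Quotient.eq_zero_iff_mem.2 (q.mul_mem_right _ hcq)

/-- The length over the base of a module of finite length over a finite algebra, through the local lengths. -/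
theorem length_eq_sum_lenAt (S : Finset (PrimeSpectrum B)) (hS : ∀ p : PrimeSpectrum B, p.asIdeal.IsMaximal ↔ p ∈ S)
    (N : Type u) [AddCommGroup N] [Module B N] (hN : IsFiniteLength B N) : ∀ [Module A N] [IsScalarTower A B N],
    Module.length A N = ∑ p ∈ S, Module.length A (B ⧸ p.asIdeal) * lenAt p N := by
  classical
  induction hN with
  | @of_subsingleton M _ _ _ =>
    intro _ _
    rw [Module.length_eq_zero]
    refine (Finset.sum_eq_zero fun p _ => ?_).symm
    rw [lenAt, Module.length_eq_zero_iff.2 (LocalizedModule.subsingleton_iff.2 fun m =>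
      ⟨1, p.asIdeal.primeCompl.one_mem, Subsingleton.elim _ _⟩), mul_zero]
  | @of_simple_quotient M _ _ N' hs _ ih =>
    intro _ _
    have hex : Function.Exact N'.subtype N'.mkQ := LinearMap.exact_subtype_mkQ N'
    have h1 : Module.length A M = Module.length A N' + Module.length A (M ⧸ N') :=
      Module.length_eq_add_of_exact (N'.subtype.restrictScalars A) (N'.mkQ.restrictScalars A) N'.injective_subtype
        N'.mkQ_surjective hex
    obtain ⟨q, hq, ⟨e⟩⟩ := isSimpleModule_iff_quot_maximal.1 hs
    let q₀ : PrimeSpectrum B := ⟨q, hq.isPrime⟩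
    have h2 : ∀ p ∈ S, lenAt p (M ⧸ N') = if p = q₀ then 1 else 0 := by
      intro p hp
      rw [lenAt_congr' p e]
      split
      · next h => subst h; exact lenAt_self q₀
      · next h =>
        exact lenAt_of_not_le fun hle => h (PrimeSpectrum.ext (hq.eq_of_le p.2.ne_top hle).symm)
    have h3 : ∀ p ∈ S, Module.length A (B ⧸ p.asIdeal) * lenAt p M =
        Module.length A (B ⧸ p.asIdeal) * lenAt p N' +
          (if p = q₀ then Module.length A (B ⧸ p.asIdeal) else 0) := fun p hp => by
      rw [lenAt_add' p N'.subtype N'.mkQ N'.injective_subtype N'.mkQ_surjective hex, mul_add, h2 p hp]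
      split <;> simp
    rw [h1, ih, Finset.sum_congr rfl h3, Finset.sum_add_distrib]
    congr 1
    rw [Finset.sum_eq_single q₀]
    · rw [if_pos rfl]
      exact (e.restrictScalars A).length_eq
    · intro p _ hne; rw [if_neg hne]
    · intro h; exact absurd ((hS q₀).1 hq) h

end Semilocal

end Groth.Agent.LenSum2
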